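import Mathlib

/-!
Counting the solutions of `g ^ n = 1` in finite groups built from small pieces:
affine groups `R ⋊ K` (`K` abelian, acting on the additive group of a commutative ring `R`
through units), binary products and powers.
-/

set_option autoImplicit false

namespace CfsgLib.OrderType

/-- The number of solutions of `g ^ n = 1`. -/
noncomputable def cnt (G : Type*) [Group G] (n : ℕ) : ℕ := Nat.card {g : G // g ^ n = 1}

theorem cnt_congr {G H : Type*} [Group G] [Group H] (e : G ≃* H) (n : ℕ) : cnt G n = cnt H n :=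
  Nat.card_congr (Equiv.subtypeEquiv e.toEquiv fun g => by
    rw [← e.injective.eq_iff, map_pow, map_one]; rfl)

theorem cnt_prod (G H : Type*) [Group G] [Group H] (n : ℕ) :
    cnt (G × H) n = cnt G n * cnt H n := by
  rw [cnt, cnt, cnt, ← Nat.card_prod]
  refine Nat.card_congr ((Equiv.subtypeEquivRight fun g => ?_).trans (Equiv.subtypeProdEquivProd))
  simp [Prod.ext_iff]

theorem cnt_pi (G : Type*) [Group G] (a n : ℕ) : cnt (Fin a → G) n = cnt G n ^ a := by
  have e : {g : Fin a → G // g ^ n = 1} ≃ (Fin a → {g : G // g ^ n = 1}) :=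
    (Equiv.subtypeEquivRight fun g => by simp [funext_iff]).trans (Equiv.subtypePiEquivPi)
  rw [cnt, Nat.card_congr e, Nat.card_fun, Nat.card_eq_fintype_card (α := Fin a), Fintype.card_fin]
  rfl

theorem cnt_eq_filter (G : Type*) [Group G] [Fintype G] [DecidableEq G] (n : ℕ) :
    cnt G n = (Finset.univ.filter fun g : G => g ^ n = 1).card := by
  rw [cnt, Nat.card_eq_fintype_card, Fintype.card_subtype]

theorem pow_eq_one_of_cnt_eq_card {G : Type*} [Group G] [Finite G] {e : ℕ}
    (h : cnt G e = Nat.card G) (g : G) : g ^ e = 1 := by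
  have hb := (Nat.bijective_iff_injective_and_card (Subtype.val : {g : G // g ^ e = 1} → G)).2
    ⟨Subtype.val_injective, h⟩
  obtain ⟨x, rfl⟩ := hb.2 g
  exact x.2

theorem cnt_gcd {G : Type*} [Group G] {e : ℕ} (he : ∀ g : G, g ^ e = 1) (n : ℕ) :
    cnt G n = cnt G (Nat.gcd n e) := by
  refine Nat.card_congr (Equiv.subtypeEquivRight fun g => ?_)
  rw [pow_gcd_eq_one]
  simp [he g]

/-! ### Affine groups -/

section Affine

variable {R : Type*} [CommRing R] {K : Type*} [CommGroup K]

/-- Units of a ring act on its additive group by multiplication. -/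
def unitAct (R : Type*) [CommRing R] : Rˣ →* MulAut (Multiplicative R) where
  toFun c :=
    { toFun := fun x => Multiplicative.ofAdd ((c : R) * x.toAdd)
      invFun := fun x => Multiplicative.ofAdd (((c⁻¹ : Rˣ) : R) * x.toAdd)
      left_inv := fun x => by simp [← mul_assoc]
      right_inv := fun x => by simp [← mul_assoc]
      map_mul' := fun x y => by simp [mul_add] }
  map_one' := by ext x; simp
  map_mul' c d := by ext x; simp [mul_assoc]

/-- The affine group `R ⋊ K`. -/
abbrev Aff (χ : K →* Rˣ) : Type _ := Multiplicative R ⋊[(unitAct R).comp χ] K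

theorem aff_pow_right (χ : K →* Rˣ) (x : Aff χ) (n : ℕ) : (x ^ n).right = x.right ^ n :=
  map_pow (SemidirectProduct.rightHom) x n

theorem aff_pow_left (χ : K →* Rˣ) (x : Aff χ) (n : ℕ) :
    (x ^ n).left.toAdd = (∑ j ∈ Finset.range n, (χ x.right : R) ^ j) * x.left.toAdd := by
  induction n with
  | zero => simp
  | succ n ih =>
    rw [pow_succ', SemidirectProduct.mul_left, geom_sum_succ]
    simp only [toAdd_mul]
    have h : ((((unitAct R).comp χ) x.right) (x ^ n).left).toAdd =
        (χ x.right : R) * (x ^ n).left.toAdd := rfl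
    rw [h, ih]; ring

theorem aff_isSolvable (χ : K →* Rˣ) : Group.IsSolvable (Aff χ) :=
  Group.isSolvable_of_ker_le_range (SemidirectProduct.inl (φ := (unitAct R).comp χ))
    SemidirectProduct.rightHom (by rw [SemidirectProduct.range_inl_eq_ker_rightHom])

/-- `f` computes the number of zeros of multiplication by a geometric sum `1 + c + ⋯ + c^(n-1)`. -/
def Counts (R : Type*) [CommRing R] (f : R → ℕ → ℕ) : Prop :=
  ∀ (c : R) (n : ℕ), c ^ n = 1 →
    Nat.card {v : R // (∑ j ∈ Finset.range n, c ^ j) * v = 0} = f c n

theorem counts_trivial {R : Type*} [CommRing R] [Subsingleton R] : Counts R (fun _ _ => 1) := by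
  intro c n _
  haveI : Unique {v : R // (∑ j ∈ Finset.range n, c ^ j) * v = 0} :=
    { default := ⟨0, mul_zero _⟩, uniq := fun a => Subsingleton.elim _ _ }
  exact Nat.card_unique

theorem counts_prod {R S : Type*} [CommRing R] [CommRing S] {f : R → ℕ → ℕ} {g : S → ℕ → ℕ}
    (hf : Counts R f) (hg : Counts S g) :
    Counts (R × S) (fun c n => f c.1 n * g c.2 n) := by
  intro c n hc
  change _ = f c.1 n * g c.2 n
  rw [← hf c.1 n (by simpa using congrArg Prod.fst hc),
    ← hg c.2 n (by simpa using congrArg Prod.snd hc), ← Nat.card_prod]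
  refine Nat.card_congr ((Equiv.subtypeEquivRight fun v => ?_).trans (Equiv.subtypeProdEquivProd))
  simp [Prod.ext_iff, Prod.fst_sum, Prod.snd_sum]

/-- The count in a ring without zero divisors with `q` elements. -/
def domainCount (R : Type*) [CommRing R] [DecidableEq R] (q : ℕ) (c : R) (n : ℕ) : ℕ :=
  if c = 1 ∧ (n : R) ≠ 0 then 1 else q

theorem counts_domain {R : Type*} [CommRing R] [DecidableEq R] {q : ℕ} (hq : Nat.card R = q)
    (hR : ∀ x y : R, x * y = 0 → x = 0 ∨ y = 0) : Counts R (domainCount R q) := by
  intro c n hc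
  rw [domainCount]
  split_ifs with h
  · obtain ⟨rfl, hn⟩ := h
    haveI : Unique {v : R // (∑ j ∈ Finset.range n, (1 : R) ^ j) * v = 0} :=
      { default := ⟨0, mul_zero _⟩
        uniq := fun a => Subtype.ext ((hR _ _ a.2).resolve_left (by simpa using hn)) }
    exact Nat.card_unique
  · have hS : (∑ j ∈ Finset.range n, c ^ j) = 0 := by
      by_cases h1 : c = 1
      · subst h1; simpa using h
      · have h2 : (∑ j ∈ Finset.range n, c ^ j) * (c - 1) = 0 := by
          rw [geom_sum_mul, hc, sub_self]
        exact (hR _ _ h2).resolve_right (sub_ne_zero.2 h1)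
    rw [← hq]
    exact Nat.card_congr (Equiv.subtypeUnivEquiv fun v => by rw [hS, zero_mul])

theorem cnt_aff [Fintype K] [DecidableEq K] [Finite R] (χ : K →* Rˣ) {f : R → ℕ → ℕ}
    (hf : Counts R f) (n : ℕ) :
    cnt (Aff χ) n = ∑ k ∈ Finset.univ.filter (fun k : K => k ^ n = 1), f (χ k) n := by
  classical
  let e : {g : Aff χ // g ^ n = 1} ≃
      Σ k : {k : K // k ^ n = 1}, {v : R // (∑ j ∈ Finset.range n, (χ k.1 : R) ^ j) * v = 0} :=
    { toFun := fun g => ⟨⟨g.1.right, by rw [← aff_pow_right, g.2]; rfl⟩,
        ⟨g.1.left.toAdd, by rw [← aff_pow_left, g.2]; rfl⟩⟩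
      invFun := fun z => ⟨⟨Multiplicative.ofAdd z.2.1, z.1.1⟩, by
        apply SemidirectProduct.ext
        · apply Multiplicative.toAdd.injective
          rw [aff_pow_left]
          exact z.2.2
        · rw [aff_pow_right]
          exact z.1.2⟩
      left_inv := fun g => rfl
      right_inv := fun z => rfl }
  haveI hfs : Fintype {k : K // k ^ n = 1} := Subtype.fintype _
  rw [cnt, Nat.card_congr e, Nat.card_sigma]
  rw [Finset.sum_subtype (Finset.univ.filter fun k : K => k ^ n = 1) (p := fun k => k ^ n = 1)
    (F := hfs) (fun k => by simp)]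
  refine Finset.sum_congr (by ext; simp) fun k _ => ?_
  refine hf _ n ?_
  rw [← Units.val_pow_eq_pow_val, ← map_pow, k.2, map_one, Units.val_one]

theorem card_aff (χ : K →* Rˣ) : Nat.card (Aff χ) = Nat.card R * Nat.card K := by
  rw [SemidirectProduct.card, Nat.card_congr (Multiplicative.toAdd (α := R))]

end Affine

/-- The action of `ℤ/a × ℤ/b` through two units. -/
def twoGenHom {R : Type*} [CommRing R] (a b : ℕ) [NeZero a] [NeZero b] (u v : Rˣ)
    (hu : u ^ a = 1) (hv : v ^ b = 1) : Multiplicative (ZMod a × ZMod b) →* Rˣ where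
  toFun k := u ^ k.toAdd.1.val * v ^ k.toAdd.2.val
  map_one' := by simp
  map_mul' k l := by
    rw [toAdd_mul, Prod.fst_add, Prod.snd_add, ZMod.val_add, ZMod.val_add, ← pow_eq_pow_mod _ hu,
      ← pow_eq_pow_mod _ hv, pow_add, pow_add]
    exact mul_mul_mul_comm _ _ _ _

/-! ### Bundles -/

/-- A finite group together with a table of its counts of `g ^ n = 1` for `n ∣ e`. -/
structure Counted (e : ℕ) where
  carrier : Type
  [group : Group carrier]
  [finite : Finite carrier]
  count : ℕ → ℕ
  count_eq : ∀ n ∈ e.divisors, cnt carrier n = count n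
  pow_eq_one : ∀ g : carrier, g ^ e = 1

attribute [instance] Counted.group Counted.finite

namespace Counted

variable {e : ℕ}

/-- Product of two counted groups. -/
def prod (A B : Counted e) : Counted e where
  carrier := A.carrier × B.carrier
  count n := A.count n * B.count n
  count_eq n hn := by rw [cnt_prod, A.count_eq n hn, B.count_eq n hn]
  pow_eq_one g := Prod.ext (A.pow_eq_one g.1) (B.pow_eq_one g.2)

/-- Power of a counted group. -/
def pow (A : Counted e) (a : ℕ) : Counted e where
  carrier := Fin a → A.carrier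
  count n := A.count n ^ a
  count_eq n hn := by rw [cnt_pi, A.count_eq n hn]
  pow_eq_one g := funext fun i => A.pow_eq_one (g i)

/-- Equal tables give the same number of solutions of `g ^ n = 1` for every `n`. -/
theorem cnt_eq (A B : Counted e) (he : e ≠ 0) (h : ∀ n ∈ e.divisors, A.count n = B.count n) (n : ℕ) :
    cnt A.carrier n = cnt B.carrier n := by
  have hd : Nat.gcd n e ∈ e.divisors := Nat.mem_divisors.2 ⟨Nat.gcd_dvd_right n e, he⟩
  rw [cnt_gcd A.pow_eq_one, cnt_gcd B.pow_eq_one, A.count_eq _ hd, B.count_eq _ hd, h _ hd]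

theorem prod_isSolvable {A B : Counted e} (hA : Group.IsSolvable A.carrier)
    (hB : Group.IsSolvable B.carrier) : Group.IsSolvable (A.prod B).carrier := by
  haveI := hA; haveI := hB
  exact inferInstanceAs (Group.IsSolvable (A.carrier × B.carrier))

theorem pow_isSolvable {A : Counted e} (hA : Group.IsSolvable A.carrier) (a : ℕ) :
    Group.IsSolvable (A.pow a).carrier := by
  haveI := hA
  change Group.IsSolvable (Fin a → A.carrier)
  induction a with
  | zero => infer_instance
  | succ a ih =>
    haveI := ih
    exact Group.isSolvable_of_isSolvable_injective (f := (MonoidHom.prod (Pi.evalMonoidHom _ 0)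
      (Pi.monoidHom fun i : Fin a => Pi.evalMonoidHom _ i.succ) :
      (Fin (a + 1) → A.carrier) →* A.carrier × (Fin a → A.carrier))) fun x y h => by
      funext i
      refine Fin.cases ?_ ?_ i
      · exact congrArg Prod.fst h
      · exact fun j => congrFun (congrArg Prod.snd h) j

end Counted

/-- A counted solvable group. -/
structure CountedSolvable (e : ℕ) where
  toCounted : Counted e
  solvable : Group.IsSolvable toCounted.carrier

/-- Product of counted solvable groups. -/
def CountedSolvable.prod {e : ℕ} (A B : CountedSolvable e) : CountedSolvable e :=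
  ⟨A.toCounted.prod B.toCounted, Counted.prod_isSolvable A.solvable B.solvable⟩

/-- Power of a counted solvable group. -/
def CountedSolvable.pow {e : ℕ} (A : CountedSolvable e) (a : ℕ) : CountedSolvable e :=
  ⟨A.toCounted.pow a, Counted.pow_isSolvable A.solvable a⟩

/-- A counted solvable group from an affine group. -/
def CountedSolvable.ofAff {e : ℕ} (he : e ≠ 0) {R : Type} [CommRing R] [Finite R] {K : Type} [CommGroup K] [Fintype K]
    [DecidableEq K] (χ : K →* Rˣ) {f : R → ℕ → ℕ} (hf : Counts R f) (q : ℕ)
    (hq : Nat.card R = q)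
    (htop : (∑ k ∈ Finset.univ.filter (fun k : K => k ^ e = 1), f (χ k) e) = q * Fintype.card K) :
    CountedSolvable e where
  toCounted :=
    { carrier := Aff χ
      finite := Finite.of_equiv _ SemidirectProduct.equivProd.symm
      count := fun n => ∑ k ∈ Finset.univ.filter (fun k : K => k ^ n = 1), f (χ k) n
      count_eq := fun n _ => cnt_aff χ hf n
      pow_eq_one := fun g => by
        haveI : Finite (Aff χ) := Finite.of_equiv _ SemidirectProduct.equivProd.symm
        refine pow_eq_one_of_cnt_eq_card ?_ g
        rw [cnt_aff χ hf, htop, card_aff, hq, Nat.card_eq_fintype_card] }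
  solvable := aff_isSolvable χ

/-- Three elements with product one and orders `2`, `3`, `7` obstruct solvability. -/
theorem not_isSolvable_of_two_three_seven {G : Type*} [Group G] (a b : G) (ha : a ^ 2 = 1)
    (hb : b ^ 3 = 1) (hab : (a * b) ^ 7 = 1) (ha1 : a ≠ 1) : ¬ Group.IsSolvable G := by
  intro h
  obtain ⟨n, hn⟩ := h.solvable
  have hmem : ∀ k, a ∈ derivedSeries G k ∧ b ∈ derivedSeries G k := by
    intro k
    induction k with
    | zero => exact ⟨Subgroup.mem_top a, Subgroup.mem_top b⟩
    | succ k ih =>
      let a' : derivedSeries G k := ⟨a, ih.1⟩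
      let b' : derivedSeries G k := ⟨b, ih.2⟩
      let π := Abelianization.of (G := derivedSeries G k)
      have h2 : π a' ^ 2 = 1 := by rw [← map_pow, show a' ^ 2 = 1 from Subtype.ext ha, map_one]
      have h3 : π b' ^ 3 = 1 := by rw [← map_pow, show b' ^ 3 = 1 from Subtype.ext hb, map_one]
      have h7 : (π a' * π b') ^ 7 = 1 := by
        rw [← map_mul, ← map_pow, show (a' * b') ^ 7 = 1 from Subtype.ext hab, map_one]
      rw [mul_pow, pow_succ (π a') 6, show π a' ^ 6 = (π a' ^ 2) ^ 3 from pow_mul _ 2 3, h2,
        one_pow, one_mul, pow_succ (π b') 6, show π b' ^ 6 = (π b' ^ 3) ^ 2 from pow_mul _ 3 2, h3,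
        one_pow, one_mul] at h7
      have ha' : π a' = (π b')⁻¹ := eq_inv_of_mul_eq_one_left h7
      have e1 : π b' = 1 := by
        have h2' : π b' ^ 2 = 1 := by
          rw [ha', inv_pow, inv_eq_one] at h2; exact h2
        rw [pow_succ, h2', one_mul] at h3
        exact h3
      have e2 : π a' = 1 := by rw [ha', e1, inv_one]
      have key : ∀ x : derivedSeries G k, π x = 1 → (x : G) ∈ derivedSeries G (k + 1) := by
        intro x hx
        rw [derivedSeries_succ]
        have : x ∈ commutator (derivedSeries G k) := by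
          rw [← Abelianization.ker_of]; exact hx
        rw [← Subgroup.map_subtype_commutator]
        exact ⟨x, this, rfl⟩
      exact ⟨key a' e2, key b' e1⟩
  exact ha1 (Subgroup.mem_bot.1 (hn ▸ (hmem n).1))

end CfsgLib.OrderType
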